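import Groth.Agent.SuppQC64.Sections
import Groth.Agent.Mod48.DerivedAc
import Groth.Agent.LocCohZ46.Vanish
import Groth.Prelude.Def_SuppFam

/-!
Quasi-coherence of local cohomology sheaves with locally closed supports.
-/

set_option autoImplicit false
set_option backward.isDefEq.respectTransparency.types false
set_option linter.style.haveILetI false

universe u

open CategoryTheory CategoryTheory.Limits AlgebraicGeometry TopologicalSpace Opposite

attribute [local instance] HasDerivedCategory.standard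

noncomputable section

namespace Groth.Agent.SuppQC64

open Groth.Agent QC70

variable {Y : Scheme.{u}}

/-- The middle term of a five-term exact sequence of quasi-coherent modules is quasi-coherent. -/
theorem isQuasicoherent_middle {A₁ A₂ B C₁ C₂ : Y.Modules} (f : A₁ ⟶ A₂) (g : A₂ ⟶ B) (k : B ⟶ C₁) (l : C₁ ⟶ C₂)
    (w₁ : f ≫ g = 0) (w₂ : g ≫ k = 0) (w₃ : k ≫ l = 0) (e₁ : (ShortComplex.mk f g w₁).Exact)
    (e₂ : (ShortComplex.mk g k w₂).Exact) (e₃ : (ShortComplex.mk k l w₃).Exact)
    [A₁.IsQuasicoherent] [A₂.IsQuasicoherent] [C₁.IsQuasicoherent] [C₂.IsQuasicoherent] :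
    B.IsQuasicoherent := by
  have h1 : (cokernel f).IsQuasicoherent := isQuasicoherent_cokernel f
  have h3 : (kernel l).IsQuasicoherent := isQuasicoherent_kernel l
  have hm : Mono (cokernel.desc f g w₁) := e₁.mono_cokernelDesc
  have he : Epi (kernel.lift l k w₃) := e₃.epi_kernelLift
  have hz : cokernel.desc f g w₁ ≫ kernel.lift l k w₃ = 0 := by
    rw [← cancel_mono (kernel.ι l), ← cancel_epi (cokernel.π f)]
    simp [w₂]
  let S := ShortComplex.mk (cokernel.desc f g w₁) (kernel.lift l k w₃) hz
  let S' : ShortComplex Y.Modules := ShortComplex.mk g (kernel.lift l k w₃)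
    (by rw [← cancel_mono (kernel.ι l)]; simp [w₂])
  let φ : S' ⟶ S := { τ₁ := cokernel.π f, τ₂ := 𝟙 _, τ₃ := 𝟙 _ }
  let ψ : S' ⟶ ShortComplex.mk g k w₂ := { τ₁ := 𝟙 _, τ₂ := 𝟙 _, τ₃ := kernel.ι l }
  haveI : Epi φ.τ₁ := inferInstanceAs (Epi (cokernel.π f))
  haveI : Mono φ.τ₃ := inferInstanceAs (Mono (𝟙 _))
  haveI : IsIso φ.τ₂ := inferInstanceAs (IsIso (𝟙 _))
  haveI : Epi ψ.τ₁ := inferInstanceAs (Epi (𝟙 _))
  haveI : Mono ψ.τ₃ := inferInstanceAs (Mono (kernel.ι l))
  haveI : IsIso ψ.τ₂ := inferInstanceAs (IsIso (𝟙 _))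
  have hS : S.ShortExact :=
    { exact := (ShortComplex.exact_iff_of_epi_of_isIso_of_mono φ).1
        ((ShortComplex.exact_iff_of_epi_of_isIso_of_mono ψ).2 e₂)
      mono_f := hm
      epi_g := he }
  haveI : S.X₁.IsQuasicoherent := h1
  haveI : S.X₃.IsQuasicoherent := h3
  exact isQuasicoherent_X₂ S hS

/-- The kernel of a map of quasi-coherent modules, recognised by exactness. -/
theorem isQuasicoherent_left {A B C : Y.Modules} (g : A ⟶ B) (k : B ⟶ C) (w : g ≫ k = 0)
    (e : (ShortComplex.mk g k w).Exact) [Mono g] [B.IsQuasicoherent] [C.IsQuasicoherent] : A.IsQuasicoherent := by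
  haveI := isQuasicoherent_kernel k
  haveI : Mono (ShortComplex.mk g k w).f := ‹_›
  exact isQuasicoherent_of_iso ((kernelIsKernel k).conePointUniqueUpToIso e.fIsKernel) ‹_›

variable [HasInjectiveResolutions Y.Modules] (V₂ V₁ : Y.Opens)

/-- The higher direct images along a quasi-compact open immersion are quasi-coherent. -/
theorem isQuasicoherent_T (V : Y.Opens) [QuasiCompact V.ι] (M : Y.Modules) [M.IsQuasicoherent] (n : ℕ) :
    (((T V).rightDerived n).obj M).IsQuasicoherent := by
  let R := Scheme.Modules.restrictFunctor V.ι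
  haveI : PreservesFiniteLimits R := Functor.preservesFiniteLimits_of_preservesHomology _
  haveI : (M.restrict V.ι).IsQuasicoherent := inferInstance
  obtain ⟨e⟩ := nonempty_rightDerived_comp_iso R (Scheme.Modules.pushforward V.ι)
    (fun I hI => @injective_restrict _ _ V.ι _ I hI) M
    (fun k => isZero_rightDerived_of_preservesHomology R M k) n
  have := Coh69.isQuasicoherent_rpush (f := V.ι) (M.restrict V.ι) n
  exact isQuasicoherent_of_iso e this

variable {V₂ V₁} (h : V₂ ≤ V₁)

include h in
/-- Restricting twice. -/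
theorem isIso_T_map_unit (F : Y.Modules) :
    IsIso ((T V₂).map ((Scheme.Modules.restrictAdjunction V₁.ι).unit.app F)) := by
  rw [Scheme.Modules.Hom.isIso_iff_isIso_app]
  intro V'
  rw [ConcreteCategory.isIso_iff_bijective]
  have hW : V₂.ι ''ᵁ (V₂.ι ⁻¹ᵁ V') ≤ V₁ := (HomOn.range_le _).trans h
  change Function.Bijective (((Scheme.Modules.restrictAdjunction V₁.ι).unit.app F).app (V₂.ι ''ᵁ (V₂.ι ⁻¹ᵁ V')))
  rw [Scheme.Modules.restrictAdjunction_unit_app_app]
  refine ⟨fun a b e => ?_, fun c => ⟨res F (HomOn.image_preimage hW).ge c, ?_⟩⟩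
  · have e' := congrArg (res F (HomOn.image_preimage hW).ge) e
    exact ((res_self _).symm.trans (res_res _ _ _).symm).trans (e'.trans ((res_res _ _ _).trans (res_self _)))
  · exact (res_res (HomOn.image_preimage hW).ge (V₁.ι.image_preimage_le _) c).trans (res_self c)

instance preservesFiniteLimits_G : PreservesFiniteLimits (T V₁) := by
  haveI : PreservesFiniteLimits (Scheme.Modules.restrictFunctor V₁.ι) :=
    Functor.preservesFiniteLimits_of_preservesHomology _
  exact comp_preservesFiniteLimits _ _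

theorem injective_T (V : Y.Opens) (I : Y.Modules) [Injective I] : Injective ((T V).obj I) := by
  haveI : Injective (I.restrict V.ι) := injective_restrict (j := V.ι) I
  exact (Scheme.Modules.restrictAdjunction V.ι).map_injective _ inferInstance

include h in
/-- The derived functors of `G` are quasi-coherent. -/
theorem isQuasicoherent_G [QuasiCompact V₁.ι] [QuasiCompact V₂.ι] (M : Y.Modules) [M.IsQuasicoherent] (q : ℕ) :
    (((G V₂ V₁).rightDerived q).obj M).IsQuasicoherent := by
  let P := injectiveResolution M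
  let c := ComplexShape.up ℕ
  let K1 := ((G V₂ V₁).mapHomologicalComplex c).obj P.cocomplex
  let K2 := ((T V₁).mapHomologicalComplex c).obj P.cocomplex
  let K3 := ((T V₁ ⋙ T V₂).mapHomologicalComplex c).obj P.cocomplex
  let u : ∀ F : Y.Modules, (T V₁).obj F ⟶ (T V₁ ⋙ T V₂).obj F := fun F =>
    (Scheme.Modules.restrictAdjunction V₂.ι).unit.app ((T V₁).obj F)
  let i : K1 ⟶ K2 :=
    { f := fun n => incG V₂ V₁ (P.cocomplex.X n)
      comm' := fun a b _ => (kernel.lift_ι _ _ _).symm }
  let π : K2 ⟶ K3 :=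
    { f := fun n => u (P.cocomplex.X n)
      comm' := fun a b _ =>
        ((Scheme.Modules.restrictAdjunction V₂.ι).unit.naturality ((T V₁).map (P.cocomplex.d a b))).symm }
  have hiπ : i ≫ π = 0 := HomologicalComplex.hom_ext _ _ fun n => incG_comp V₂ V₁ _
  let S : ShortComplex (HomologicalComplex Y.Modules c) := ShortComplex.mk i π hiπ
  have hS : S.ShortExact := HomologicalComplex.shortExact_of_degreewise_shortExact _ fun n => by
    haveI := P.injective n
    haveI := injective_T V₁ (P.cocomplex.X n)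
    exact ShortComplex.ShortExact.mk' (ShortComplex.exact_kernel (u (P.cocomplex.X n)))
      (inferInstanceAs (Mono (kernel.ι (u (P.cocomplex.X n)))))
      (LC16.GammaZQCoh.epi_unit V₂.ι ((T V₁).obj (P.cocomplex.X n)))
  have h2 : ∀ n, (K2.homology n).IsQuasicoherent := fun n =>
    isQuasicoherent_of_iso (P.isoRightDerivedObj (T V₁) n) (isQuasicoherent_T V₁ M n)
  have h3 : ∀ n, (K3.homology n).IsQuasicoherent := fun n => by
    have := isQuasicoherent_T V₂ M n
    let α : T V₂ ≅ T V₁ ⋙ T V₂ :=
      NatIso.ofComponents (fun F => @asIso _ _ _ _ _ (isIso_T_map_unit h F)) (fun φ => by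
        change (T V₂).map φ ≫ (T V₂).map _ = (T V₂).map _ ≫ (T V₂).map ((T V₁).map φ)
        rw [← Functor.map_comp, ← Functor.map_comp]
        exact congrArg (T V₂).map ((Scheme.Modules.restrictAdjunction V₁.ι).unit.naturality φ))
    exact isQuasicoherent_of_iso (P.isoRightDerivedObj (T V₂) n ≪≫
      (HomologicalComplex.homologyFunctor _ _ n).mapIso ((NatIso.mapHomologicalComplex α c).app P.cocomplex)) this
  suffices (K1.homology q).IsQuasicoherent from
    isQuasicoherent_of_iso (P.isoRightDerivedObj (G V₂ V₁) q).symm this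
  cases q with
  | zero =>
    haveI := h2 0
    haveI := h3 0
    haveI : Mono (i.f 0) := mono_incG V₂ V₁ _
    haveI : Mono (HomologicalComplex.cyclesMap i 0) := by
      haveI : Mono (HomologicalComplex.cyclesMap i 0 ≫ K2.iCycles 0) := by
        rw [HomologicalComplex.cyclesMap_i]; infer_instance
      exact mono_of_mono _ (K2.iCycles 0)
    haveI := K1.isIso_homologyπ ((ComplexShape.up ℕ).prev 0) 0 rfl (K1.shape _ _ (by simp [c]))
    haveI := K2.isIso_homologyπ ((ComplexShape.up ℕ).prev 0) 0 rfl (K2.shape _ _ (by simp [c]))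
    haveI : Mono (HomologicalComplex.homologyMap i 0) := by
      rw [show HomologicalComplex.homologyMap i 0 =
          inv (K1.homologyπ 0) ≫ HomologicalComplex.cyclesMap i 0 ≫ K2.homologyπ 0 by
        rw [← HomologicalComplex.homologyπ_naturality, IsIso.inv_hom_id_assoc]]
      infer_instance
    exact isQuasicoherent_left _ _ _ (hS.homology_exact₂ 0)
  | succ n =>
    haveI := h2 n
    haveI := h3 n
    haveI := h2 (n + 1)
    haveI := h3 (n + 1)
    exact isQuasicoherent_middle _ _ _ _ _ _ _ (hS.homology_exact₃ n (n + 1) rfl)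
      (hS.homology_exact₁ n (n + 1) rfl) (hS.homology_exact₂ (n + 1))

section Sheaves

instance toAbF_additive : (toAbF Y).Additive where

instance toAbF_preservesFiniteLimits : PreservesFiniteLimits (toAbF Y) :=
  inferInstanceAs (PreservesFiniteLimits (SheafOfModules.toSheaf.{u} Y.ringCatSheaf))

instance toAbF_preservesFiniteColimits : PreservesFiniteColimits (toAbF Y) :=
  inferInstanceAs (PreservesFiniteColimits (SheafOfModules.toSheaf.{u} Y.ringCatSheaf))

/-- Underlying sheaves of injective modules are flasque. -/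
theorem isFlasque_toAb (I : Y.Modules) [Injective I] :
    TopCat.Sheaf.IsFlasque (X := Y.toTopCat) ((toAbF Y).obj I) :=
  ⟨fun {U V} i => by
    rw [AddCommGrpCat.epi_iff_surjective]
    exact restriction_surjective_of_injective I i.unop.le⟩

/-- Flasque sheaves have no higher local cohomology sheaves. -/
theorem isZero_HZshLC {X : TopCat.{u}} {W V : Opens X} (h : W ≤ V) (B : CohTop.Ab X)
    [TopCat.Sheaf.IsFlasque B] (q : ℕ) : IsZero ((SuppFam.HZshLC h (q + 1)).obj B) := by
  refine IsZero.of_iso ?_ ((SuppInj95.HZshLCIso h (q + 1)).app B)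
  refine Functor.map_isZero (presheafToSheaf (Opens.grothendieckTopology X) AddCommGrpCat.{u})
    (Functor.isZero _ fun P => ?_)
  have hs := LocCohZ46.subsingleton_HZ_of_isFlasque (F := B) (inf_le_inf_right P.unop h) q
  haveI : Subsingleton (((SiteCoh.extPre (SuppInj95.Zfun h) (q + 1)).obj B).obj P) := hs
  exact AddCommGrpCat.isZero_of_subsingleton _

instance preservesFiniteLimits_sectSuppLC {X : TopCat.{u}} {W V : Opens X} (h : W ≤ V) :
    PreservesFiniteLimits (SuppFam.sectSuppLC h) := by
  haveI : PreservesFiniteLimits (CohTop.push (CohCx.incl V)) :=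
    ⟨fun J _ _ => by
      haveI := (LocCohZ46.restrAdj (U := V)).rightAdjoint_preservesLimits.{0, 0}
      infer_instance⟩
  haveI : PreservesFiniteLimits (LocCohZ.sectSuppF (X := TopCat.of V) (SuppFam.inOpen V W)) :=
    LocCohZ46.preservesFiniteLimits_sectSuppF _
  haveI := comp_preservesFiniteLimits (LocCohZ.sectSuppF (X := TopCat.of V) (SuppFam.inOpen V W))
    (CohTop.push (CohCx.incl V))
  exact comp_preservesFiniteLimits (CohTop.restrFunctor V)
    (LocCohZ.sectSuppF (SuppFam.inOpen V W) ⋙ CohTop.push (CohCx.incl V))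

include h in
/-- Local cohomology sheaves with locally closed supports of quasi-coherent modules. -/
theorem exists_qcoh [QuasiCompact V₁.ι] [QuasiCompact V₂.ι] (F : Y.Modules) [F.IsQuasicoherent] (i : ℕ) :
    ∃ M : Y.Modules, Coh.IsQCoh M ∧
      Nonempty (Coh.toAb M ≅ (SuppFam.HZshLC (X := Y.toTopCat) h i).obj (Coh.toAb F)) := by
  refine ⟨((G V₂ V₁).rightDerived i).obj F, isQuasicoherent_G h F i, ⟨?_⟩⟩
  let S := SuppFam.sectSuppLC (X := Y.toTopCat) h
  have hac : ∀ I : Y.Modules, Injective I → RFPlus43.IsAc S ((toAbF Y).obj I) := fun I hI => by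
    haveI := isFlasque_toAb I
    refine Mod48.isAc_of_isZero S _ fun j hj => ?_
    obtain ⟨k, rfl⟩ := Nat.exists_eq_succ_of_ne_zero hj.ne'
    exact isZero_HZshLC h _ k
  let P := injectiveResolution F
  let e1 : (toAbF Y).obj (((G V₂ V₁).rightDerived i).obj F) ≅
      ((G V₂ V₁ ⋙ toAbF Y).rightDerived i).obj F :=
    (toAbF Y).mapIso (P.isoRightDerivedObj (G V₂ V₁) i) ≪≫
      (((((G V₂ V₁).mapHomologicalComplex _).obj P.cocomplex).sc i).mapHomologyIso (toAbF Y)).symm ≪≫
      (P.isoRightDerivedObj (G V₂ V₁ ⋙ toAbF Y) i).symm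
  exact e1 ≪≫ (LocCohZ46.rightDerivedIso (sectIso h) i).app F ≪≫
    (Mod48.rightDerivedCompIsoOfAc (toAbF Y) S hac i).app F

end Sheaves

end Groth.Agent.SuppQC64
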