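import Groth.Agent.LC16.GammaZQCoh
import Groth.Agent.SuppInj95.Locally
import Groth.Agent.QC70.ToSheaf

/-!
Sections with supports in a locally closed subset, as a functor on modules.
-/

set_option autoImplicit false
set_option backward.isDefEq.respectTransparency.types false

universe u

open CategoryTheory CategoryTheory.Limits AlgebraicGeometry TopologicalSpace Opposite

noncomputable section

namespace Groth.Agent.SuppQC64

open Groth.Agent QC70 LocCohZ46 SuppInj95

variable {Y : Scheme.{u}} {V₂ V₁ : Y.Opens} (h : V₂ ≤ V₁)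

/-- Restriction to an open followed by direct image. -/
abbrev T (V : Y.Opens) : Y.Modules ⥤ Y.Modules :=
  Scheme.Modules.restrictFunctor V.ι ⋙ Scheme.Modules.pushforward V.ι

/-- Sections over the larger open supported outside the smaller one. -/
abbrev G (V₂ V₁ : Y.Opens) : Y.Modules ⥤ Y.Modules := T V₁ ⋙ DCoh.gammaZ V₂.ι

/-- The forgetful functor to abelian sheaves. -/
abbrev toAbF (Y : Scheme.{u}) : Y.Modules ⥤ Sheaf (Opens.grothendieckTopology Y) AddCommGrpCat.{u} :=
  SheafOfModules.toSheaf Y.ringCatSheaf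

lemma im_le (V : Y.Opens) (V' : Y.Opens) : V.ι ''ᵁ (V.ι ⁻¹ᵁ V') ≤ V ⊓ V' :=
  le_inf (HomOn.range_le _) (V.ι.image_preimage_le V')

lemma le_im (V : Y.Opens) (V' : Y.Opens) : V ⊓ V' ≤ V.ι ''ᵁ (V.ι ⁻¹ᵁ V') :=
  fun x hx => ⟨⟨x, hx.1⟩, hx.2, rfl⟩

section T

variable (V : Y.Opens) (F : Y.Modules) (V' : Y.Opens)

/-- Sections of `T V F` as sections of `F`. -/
def secT (t : Γ((T V).obj F, V')) : Γ(F, V.ι ''ᵁ (V.ι ⁻¹ᵁ V')) := t

/-- Sections of `F` as sections of `T V F`. -/
def ofT (s : Γ(F, V.ι ''ᵁ (V.ι ⁻¹ᵁ V'))) : Γ((T V).obj F, V') := s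

lemma secT_add (a b : Γ((T V).obj F, V')) : secT V F V' (a + b) = secT V F V' a + secT V F V' b := rfl

lemma secT_zero : secT V F V' 0 = 0 := rfl

lemma secT_injective : Function.Injective (secT V F V') := fun _ _ e => e

lemma secT_res {V'' : Y.Opens} (e : V'' ≤ V') (t : Γ((T V).obj F, V')) :
    secT V F V'' (res _ e t) = res F (V.ι.image_mono fun _ hx => e hx) (secT V F V' t) := rfl

lemma secT_map {F' : Y.Modules} (φ : F ⟶ F') (t : Γ((T V).obj F, V')) :
    secT V F' V' (((T V).map φ).app V' t) = φ.app (V.ι ''ᵁ (V.ι ⁻¹ᵁ V')) (secT V F V' t) := rfl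

lemma secT_unit (M : Y.Modules) (m : Γ(M, V')) :
    secT V M V' (((Scheme.Modules.restrictAdjunction V.ι).unit.app M).app V' m) =
      res M (V.ι.image_preimage_le V') m := rfl

end T

section Kernel

variable (V₂ V₁) (F : Y.Modules)

/-- The unit whose kernel is `G`. -/
abbrev unitG : (T V₁).obj F ⟶ (T V₂).obj ((T V₁).obj F) :=
  (Scheme.Modules.restrictAdjunction V₂.ι).unit.app ((T V₁).obj F)

/-- The inclusion of `G` in restricted sections. -/
def incG : (G V₂ V₁).obj F ⟶ (T V₁).obj F := kernel.ι (unitG V₂ V₁ F)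

instance mono_incG : Mono (incG V₂ V₁ F) := equalizer.ι_mono

lemma incG_comp : incG V₂ V₁ F ≫ unitG V₂ V₁ F = 0 := kernel.condition (unitG V₂ V₁ F)

lemma unitG_incG (V' : Y.Opens) (x : Γ((G V₂ V₁).obj F, V')) :
    (unitG V₂ V₁ F).app V' ((incG V₂ V₁ F).app V' x) = 0 := by
  rw [← ConcreteCategory.comp_apply, ← Scheme.Modules.Hom.comp_app, incG_comp, Scheme.Modules.Hom.zero_app]
  rfl

lemma exists_incG (V' : Y.Opens) (t : Γ((T V₁).obj F, V')) (ht : (unitG V₂ V₁ F).app V' t = 0) :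
    ∃ x : Γ((G V₂ V₁).obj F, V'), (incG V₂ V₁ F).app V' x = t := by
  let S := ShortComplex.mk (incG V₂ V₁ F) (unitG V₂ V₁ F) (incG_comp V₂ V₁ F)
  have : Mono S.f := inferInstanceAs (Mono (incG V₂ V₁ F))
  exact exists_app_eq_of_exact S (ShortComplex.exact_kernel (unitG V₂ V₁ F)) V' t ht

lemma incG_injective (V' : Y.Opens) : Function.Injective ((incG V₂ V₁ F).app V') :=
  QC70.app_injective_of_mono _ V'

lemma incG_map {F' : Y.Modules} (φ : F ⟶ F') (V' : Y.Opens) (x : Γ((G V₂ V₁).obj F, V')) :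
    (incG V₂ V₁ F').app V' (((G V₂ V₁).map φ).app V' x) = ((T V₁).map φ).app V' ((incG V₂ V₁ F).app V' x) :=
  congrArg (fun ψ : (G V₂ V₁).obj F ⟶ (T V₁).obj F' => ψ.app V' x)
    (show (G V₂ V₁).map φ ≫ incG V₂ V₁ F' = incG V₂ V₁ F ≫ (T V₁).map φ from kernel.lift_ι _ _ _)

end Kernel

/-- The inclusion into restricted sections. -/
def aG (F : Y.Modules) (V' : Y.Opens) : Γ((G V₂ V₁).obj F, V') →+ Γ(F, V₁ ⊓ V') :=
  AddMonoidHom.mk'
    (fun x => res F (le_im V₁ V') (secT V₁ F V' ((incG V₂ V₁ F).app V' x)))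
    (fun a b => by rw [map_add, secT_add, res_add])

lemma aG_apply (F : Y.Modules) (V' : Y.Opens) (x : Γ((G V₂ V₁).obj F, V')) :
    aG F V' x = res F (le_im V₁ V') (secT V₁ F V' ((incG V₂ V₁ F).app V' x)) := rfl

lemma aG_injective (F : Y.Modules) (V' : Y.Opens) : Function.Injective (aG (V₂ := V₂) (V₁ := V₁) F V') := by
  intro a b e
  refine incG_injective V₂ V₁ F V' (secT_injective V₁ F V' ?_)
  have e' := congrArg (res F (im_le V₁ V')) e
  rw [aG_apply, aG_apply, res_res, res_res, res_self, res_self] at e'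
  exact e'

include h in
lemma res_aG (F : Y.Modules) (V' : Y.Opens) (x : Γ((G V₂ V₁).obj F, V')) :
    res F (inf_le_inf_right V' h) (aG F V' x) = 0 := by
  have h0 := congrArg (secT V₂ ((T V₁).obj F) V') (unitG_incG V₂ V₁ F V' x)
  rw [secT_unit, secT_zero] at h0
  have h1 := congrArg (secT V₁ F _) h0
  rw [secT_res, secT_zero] at h1
  have hle : V₂ ⊓ V' ≤ V₁.ι ''ᵁ (V₁.ι ⁻¹ᵁ (V₂.ι ''ᵁ (V₂.ι ⁻¹ᵁ V'))) :=
    le_trans (le_inf (inf_le_left.trans h) (le_im V₂ V')) (le_im V₁ _)
  have h2 := congrArg (res F hle) h1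
  rw [res_res] at h2
  rw [aG_apply, res_res]
  exact h2.trans (QC70.res_zero _)

include h in
lemma exists_aG (F : Y.Modules) (V' : Y.Opens) (s : Γ(F, V₁ ⊓ V')) (hs : res F (inf_le_inf_right V' h) s = 0) :
    ∃ x : Γ((G V₂ V₁).obj F, V'), aG F V' x = s := by
  obtain ⟨x, hx⟩ := exists_incG V₂ V₁ F V' (ofT V₁ F V' (res F (im_le V₁ V') s)) (by
    refine secT_injective V₂ _ V' ?_
    rw [secT_unit, secT_zero]
    refine secT_injective V₁ F _ ?_
    rw [secT_res, secT_zero]
    have hle : V₁.ι ''ᵁ (V₁.ι ⁻¹ᵁ (V₂.ι ''ᵁ (V₂.ι ⁻¹ᵁ V'))) ≤ V₂ ⊓ V' :=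
      le_trans (V₁.ι.image_preimage_le _) (im_le V₂ V')
    have h1 := congrArg (res F hle) hs
    rw [res_res, QC70.res_zero] at h1
    show res F _ (res F (im_le V₁ V') s) = 0
    rw [res_res]
    exact h1)
  refine ⟨x, ?_⟩
  rw [aG_apply, hx]
  show res F (le_im V₁ V') (res F (im_le V₁ V') s) = s
  rw [res_res, res_self]

lemma aG_map (F : Y.Modules) {V' V'' : Y.Opens} (e : V'' ≤ V') (x : Γ((G V₂ V₁).obj F, V')) :
    aG F V'' (res _ e x) = res F (inf_le_inf_left V₁ e) (aG F V' x) := by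
  rw [aG_apply, aG_apply, QC70.app_res, secT_res, res_res, res_res]

lemma aG_natural {F F' : Y.Modules} (φ : F ⟶ F') (V' : Y.Opens) (x : Γ((G V₂ V₁).obj F, V')) :
    aG F' V' (((G V₂ V₁).map φ).app V' x) = φ.app (V₁ ⊓ V') (aG F V' x) := by
  rw [aG_apply, aG_apply, incG_map, secT_map, QC70.app_res]

/-- The map to morphisms out of the sheaf of a pair. -/
def toHomPair (F : Y.Modules) (V' : Y.Opens) (x : Γ((G V₂ V₁).obj F, V')) :
    (Zfun (X := Y.toTopCat) h).obj V' ⟶ (toAbF Y).obj F :=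
  (exists_sig (inf_le_inf_right V' h) (B := (toAbF Y).obj F) (aG F V' x) (res_aG h F V' x)).choose

lemma sig_toHomPair (F : Y.Modules) (V' : Y.Opens) (x : Γ((G V₂ V₁).obj F, V')) :
    sig (inf_le_inf_right V' h) (toHomPair h F V' x) = aG F V' x :=
  (exists_sig (inf_le_inf_right V' h) (B := (toAbF Y).obj F) (aG F V' x) (res_aG h F V' x)).choose_spec

/-- Sections of `G` are morphisms out of the sheaves of pairs. -/
def pairEquiv (F : Y.Modules) (V' : Y.Opens) :
    Γ((G V₂ V₁).obj F, V') ≃+ ((Zfun (X := Y.toTopCat) h).obj V' ⟶ (toAbF Y).obj F) :=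
  AddEquiv.ofBijective (AddMonoidHom.mk' (toHomPair h F V') fun a b => by
      refine sig_injective (inf_le_inf_right V' h) _ ?_
      refine Eq.trans ?_ (sig_add _ _ _).symm
      rw [sig_toHomPair, sig_toHomPair, sig_toHomPair]
      exact map_add (aG F V') a b)
    ⟨fun a b e => aG_injective F V' ((sig_toHomPair h F V' a).symm.trans
        ((congrArg (sig (inf_le_inf_right V' h)) e).trans (sig_toHomPair h F V' b))),
      fun φ => by
        obtain ⟨x, hx⟩ := exists_aG h F V' (sig (inf_le_inf_right V' h) φ) (sig_res _ φ)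
        exact ⟨x, sig_injective (inf_le_inf_right V' h) _ ((sig_toHomPair h F V' x).trans hx)⟩⟩

/-- The comparison of presheaves. -/
def preIso : (G V₂ V₁ ⋙ toAbF Y) ⋙ sheafToPresheaf (Opens.grothendieckTopology Y) AddCommGrpCat.{u} ≅
    toAbF Y ⋙ SiteCoh.homPre (Zfun (X := Y.toTopCat) h) :=
  NatIso.ofComponents
    (fun F => NatIso.ofComponents (fun P => (pairEquiv h F P.unop).toAddCommGrpIso) (fun {P P'} i => by
      ext x
      change toHomPair h F P'.unop (res _ i.unop.le x) = (Zfun (X := Y.toTopCat) h).map i.unop ≫ toHomPair h F P.unop x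
      refine sig_injective (inf_le_inf_right P'.unop h) _ ?_
      rw [sig_toHomPair]
      refine Eq.trans ?_ (sig_zqMap (inf_le_inf_right P.unop h) (inf_le_inf_right P'.unop h)
        (inf_le_inf_left V₂ i.unop.le) (inf_le_inf_left V₁ i.unop.le) (toHomPair h F P.unop x)).symm
      rw [sig_toHomPair]
      exact aG_map F i.unop.le x))
    (fun {F F'} φ => by
      ext P x
      change toHomPair h F' P.unop (((G V₂ V₁).map φ).app P.unop x) =
        toHomPair h F P.unop x ≫ (toAbF Y).map φ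
      refine sig_injective (inf_le_inf_right P.unop h) _ ?_
      rw [sig_toHomPair]
      refine Eq.trans ?_ (sig_comp (inf_le_inf_right P.unop h) _ _).symm
      rw [sig_toHomPair]
      exact aG_natural φ P.unop x)

/-- The functor on modules computes sections with supports of the underlying sheaf. -/
def sectIso : G V₂ V₁ ⋙ toAbF Y ≅ toAbF Y ⋙ SuppFam.sectSuppLC (X := Y.toTopCat) h :=
  ((Functor.FullyFaithful.whiskeringRight
      (fullyFaithfulSheafToPresheaf (Opens.grothendieckTopology Y) AddCommGrpCat.{u}) Y.Modules).preimageIso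
    (preIso h ≪≫ Functor.isoWhiskerLeft (toAbF Y) (suppLCPreIso (X := Y.toTopCat) h) ≪≫
      (Functor.associator _ _ _).symm))

end Groth.Agent.SuppQC64
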